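import Cfsg.Agent.Lib.Helper4.TIQ.Defs

/-!
# Project TIQ (S4151), package KFACTS
-/

set_option autoImplicit false

namespace Cfsg.Agent.Lib.Helper73.TIQ

open Cfsg.Agent.Lib.Helper4.TIQ
open scoped commutatorElement

universe u

/-- a subgroup `A` all of whose elements conjugate `K` into `K` normalizes `K` -/
theorem le_normalizer_of_conj_le {G : Type*} [Group G] (A K : Subgroup G)
    (h : ∀ a ∈ A, ∀ g ∈ K, a * g * a⁻¹ ∈ K) : A ≤ Subgroup.normalizer (K : Set G) := by
  intro a ha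
  rw [Subgroup.mem_normalizer_iff]
  intro g
  constructor
  · intro hg
    exact h a ha g hg
  · intro hg
    have h1 := h a⁻¹ (inv_mem ha) _ hg
    have e : a⁻¹ * (a * g * a⁻¹) * a⁻¹⁻¹ = g := by group
    rwa [e] at h1

/-- conjugation by `a` maps `⁅H, Q⁆` into `K` as soon as it does so on the generators -/
theorem conj_commutator_mem {G : Type*} [Group G] (H Q K : Subgroup G) (a : G)
    (h : ∀ y ∈ H, ∀ z ∈ Q, a * ⁅y, z⁆ * a⁻¹ ∈ K) : ∀ g ∈ ⁅H, Q⁆, a * g * a⁻¹ ∈ K := by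
  have h1 : ⁅H, Q⁆ ≤ K.comap (MulAut.conj a).toMonoidHom := by
    rw [Subgroup.commutator_le]
    intro y hy z hz
    rw [Subgroup.mem_comap]
    exact h y hy z hz
  intro g hg
  exact h1 hg

theorem kfacts {G : Type*} [Group G] (H Q : Subgroup G)
    (hQ : Q ≤ Subgroup.normalizer (H : Set G)) :
    ⁅H, Q⁆ ≤ H ∧ H ≤ Subgroup.normalizer ((⁅H, Q⁆ : Subgroup G) : Set G) ∧
      Q ≤ Subgroup.normalizer ((⁅H, Q⁆ : Subgroup G) : Set G) := by
  have h1 : ⁅H, Q⁆ ≤ H := by
    rw [Subgroup.commutator_le]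
    intro h hh q hq
    have h2 : q * h⁻¹ * q⁻¹ ∈ H := (Subgroup.mem_normalizer_iff.mp (hQ hq) h⁻¹).mp (inv_mem hh)
    have e : ⁅h, q⁆ = h * (q * h⁻¹ * q⁻¹) := by
      rw [commutatorElement_def]; group
    rw [e]
    exact mul_mem hh h2
  refine ⟨h1, ?_, ?_⟩
  · apply le_normalizer_of_conj_le
    intro x hx
    apply conj_commutator_mem
    intro y hy z hz
    have e : x * ⁅y, z⁆ * x⁻¹ = ⁅x * y, z⁆ * ⁅x, z⁆⁻¹ := by
      simp only [commutatorElement_def]; group
    rw [e]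
    exact mul_mem (Subgroup.commutator_mem_commutator (mul_mem hx hy) hz)
      (inv_mem (Subgroup.commutator_mem_commutator hx hz))
  · apply le_normalizer_of_conj_le
    intro q hq
    apply conj_commutator_mem
    intro y hy z hz
    have e : q * ⁅y, z⁆ * q⁻¹ = ⁅q * y * q⁻¹, q * z * q⁻¹⁆ := by
      simp only [commutatorElement_def]; group
    rw [e]
    exact Subgroup.commutator_mem_commutator ((Subgroup.mem_normalizer_iff.mp (hQ hq) y).mp hy)
      (mul_mem (mul_mem hq hz) (inv_mem hq))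

theorem pkgKFacts : PkgKFacts.{u} := by
  intro G _ H Q hQ
  exact kfacts H Q hQ

end Cfsg.Agent.Lib.Helper73.TIQ
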