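import Cfsg.Agent.Lib.Helper73.TIQ.KFacts

/-!
# Project TIQ (S4151), package NRMN
-/

set_option autoImplicit false

namespace Cfsg.Agent.Lib.Helper73.TIQ

open Cfsg.Agent.Lib.Helper4.TIQ
open scoped commutatorElement

universe u

/-- conjugation by `a` maps `A ⊔ B` into `K` as soon as it does so on `A` and on `B` -/
theorem conj_sup_mem {G : Type*} [Group G] (A B K : Subgroup G) (a : G)
    (hA : ∀ g ∈ A, a * g * a⁻¹ ∈ K) (hB : ∀ g ∈ B, a * g * a⁻¹ ∈ K) :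
    ∀ g ∈ A ⊔ B, a * g * a⁻¹ ∈ K := by
  have h1 : A ⊔ B ≤ K.comap (MulAut.conj a).toMonoidHom := by
    refine sup_le ?_ ?_
    · intro g hg
      rw [Subgroup.mem_comap]
      exact hA g hg
    · intro g hg
      rw [Subgroup.mem_comap]
      exact hB g hg
  intro g hg
  exact h1 hg

theorem pkgNormN : PkgNormN.{u} := by
  intro G _ _ H Q O hO hON hQ hQH
  obtain ⟨hKH, hHK, hQK⟩ := kfacts H Q hQ
  have hHn : ∀ x ∈ H, ∀ g ∈ (⁅H, Q⁆ : Subgroup G), x * g * x⁻¹ ∈ (⁅H, Q⁆ : Subgroup G) :=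
    fun x hx g hg => (Subgroup.mem_normalizer_iff.mp (hHK hx) g).mp hg
  have hQn : ∀ x ∈ Q, ∀ g ∈ (⁅H, Q⁆ : Subgroup G), x * g * x⁻¹ ∈ (⁅H, Q⁆ : Subgroup G) :=
    fun x hx g hg => (Subgroup.mem_normalizer_iff.mp (hQK hx) g).mp hg
  have hKL : (⁅H, Q⁆ : Subgroup G) ≤ O ⊔ (⁅H, Q⁆ ⊔ Q) := le_sup_left.trans le_sup_right
  have hQL : Q ≤ O ⊔ (⁅H, Q⁆ ⊔ Q) := le_sup_right.trans le_sup_right
  have hOL : O ≤ O ⊔ (⁅H, Q⁆ ⊔ Q) := le_sup_left
  -- `H` and `Q` normalize `O ⊔ L`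
  have hH : H ≤ Subgroup.normalizer ((O ⊔ (⁅H, Q⁆ ⊔ Q) : Subgroup G) : Set G) := by
    apply le_normalizer_of_conj_le
    intro x hx
    apply conj_sup_mem
    · intro g hg
      exact hOL (hO.conj_mem g hg x)
    · apply conj_sup_mem
      · intro g hg
        exact hKL (hHn x hx g hg)
      · intro q hq
        have e : x * q * x⁻¹ = ⁅x, q⁆ * q := by
          rw [commutatorElement_def]; group
        rw [e]
        exact mul_mem (hKL (Subgroup.commutator_mem_commutator hx hq)) (hQL hq)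
  have hQ' : Q ≤ Subgroup.normalizer ((O ⊔ (⁅H, Q⁆ ⊔ Q) : Subgroup G) : Set G) := by
    apply le_normalizer_of_conj_le
    intro x hx
    apply conj_sup_mem
    · intro g hg
      exact hOL (hO.conj_mem g hg x)
    · apply conj_sup_mem
      · intro g hg
        exact hKL (hQn x hx g hg)
      · intro q hq
        exact hQL (mul_mem (mul_mem hx hq) (inv_mem hx))
  have hO' : O ≤ Subgroup.normalizer ((O ⊔ (⁅H, Q⁆ ⊔ Q) : Subgroup G) : Set G) :=
    hOL.trans Subgroup.le_normalizer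
  have htop : (⊤ : Subgroup G) ≤ Subgroup.normalizer ((O ⊔ (⁅H, Q⁆ ⊔ Q) : Subgroup G) : Set G) := by
    rw [← hON, ← hQH]
    exact sup_le hO' (sup_le hQ' hH)
  exact Subgroup.normalizer_eq_top_iff.mp (top_le_iff.mp htop)

end Cfsg.Agent.Lib.Helper73.TIQ
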