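import Cfsg.Agent.Lib.Helper4.TIQ.Defs
import Cfsg.Agent.Lib.Helper48.Generation

/-!
# Project TIQ (S4151), package RANK
-/

set_option autoImplicit false

namespace Cfsg.Agent.Lib.Helper73.TIQ

open Cfsg.Agent.Lib.Helper4.TIQ Cfsg.Agent.Lib.Helper51.TIH

universe u

theorem pkgRank : PkgRank.{u} := by
  intro G _ _ H O hO hcop hfpf p _ x z hx hz hxz hxp hzp hind
  have hp : p.Prime := Fact.out
  -- `x ≠ 1`
  have hx1 : x ≠ 1 := by
    intro h
    have h1 := hind 1 0 (by simp [h])
    exact hp.one_lt.ne' (Nat.dvd_one.mp h1.1)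
  have hox : orderOf x = p := orderOf_eq_prime hxp hx1
  have hpH : p ∣ Nat.card H := by
    have h1 := Subgroup.orderOf_dvd_natCard H hx
    rwa [hox] at h1
  have hpO : ¬ p ∣ Nat.card O := by
    intro h
    have h1 := Nat.dvd_gcd h hpH
    rw [Nat.Coprime.gcd_eq_one hcop] at h1
    exact hp.one_lt.ne' (Nat.dvd_one.mp h1)
  let U : Subgroup G := Subgroup.closure {x, z}
  have hxU : x ∈ U := Subgroup.subset_closure (by simp)
  have hzU : z ∈ U := Subgroup.subset_closure (by simp)
  have hUH : U ≤ H := (Subgroup.closure_le H).mpr (by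
    intro y hy
    rcases hy with rfl | rfl
    · exact hx
    · exact hz)
  have h1 : U ≤ Subgroup.centralizer ({x, z} : Set G) := (Subgroup.closure_le _).mpr (by
    intro y hy
    rw [SetLike.mem_coe, Subgroup.mem_centralizer_iff]
    intro w hw
    rcases hy with rfl | rfl <;> rcases hw with rfl | rfl
    · rfl
    · exact hxz.symm
    · exact hxz
    · rfl)
  have h2 : U ≤ Subgroup.centralizer (U : Set G) := (Subgroup.closure_le _).mpr (by
    intro y hy
    rw [SetLike.mem_coe, Subgroup.mem_centralizer_iff]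
    intro w hw
    exact ((Subgroup.mem_centralizer_iff.mp (h1 hw)) y hy).symm)
  have hcomm : ∀ a ∈ U, ∀ b ∈ U, a * b = b * a := fun a ha b hb =>
    ((Subgroup.mem_centralizer_iff.mp (h2 ha)) b hb).symm
  have hexp : ∀ a ∈ U, a ^ p = 1 := by
    intro a ha
    induction ha using Subgroup.closure_induction with
    | mem y hy =>
      rcases hy with rfl | rfl
      · exact hxp
      · exact hzp
    | one => exact one_pow p
    | mul a b ha hb iha ihb =>
      have hc : Commute a b := hcomm a ha b hb
      rw [hc.mul_pow, iha, ihb, one_mul]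
    | inv a ha iha => rw [inv_pow, iha, inv_one]
  -- `U` is not cyclic
  have hnc : ¬ IsCyclic U := by
    intro hcyc
    obtain ⟨g, hg⟩ := hcyc.exists_generator
    have hgp : g ^ p = 1 := Subtype.ext (by
      rw [Subgroup.coe_pow, Subgroup.coe_one]
      exact hexp g g.2)
    have hcard : Nat.card U ∣ p := by
      rw [← orderOf_eq_card_of_forall_mem_zpowers hg]
      exact orderOf_dvd_of_pow_eq_one hgp
    have hle : Subgroup.zpowers x ≤ U := by
      rw [Subgroup.zpowers_le]
      exact hxU
    have hcx : Nat.card (Subgroup.zpowers x) = p := by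
      rw [Nat.card_zpowers, hox]
    have heq : Subgroup.zpowers x = U := by
      apply Subgroup.eq_of_le_of_card_ge hle
      rw [hcx]
      exact Nat.le_of_dvd hp.pos hcard
    have hzx : z ∈ Subgroup.zpowers x := by
      rw [heq]
      exact hzU
    obtain ⟨n, hn⟩ := (mem_powers_iff_mem_zpowers (x := x) (y := z)).mpr hzx
    have hn' : x ^ n = z := hn
    have h3 := hind (n * (p - 1)) 1 (by
      rw [pow_one, ← hn', ← pow_add]
      have e : n * (p - 1) + n = p * n := by
        have h4 : p - 1 + 1 = p := Nat.sub_add_cancel hp.pos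
        calc n * (p - 1) + n = n * (p - 1 + 1) := by ring
          _ = p * n := by rw [h4, mul_comm]
      rw [e, pow_mul, hxp, one_pow])
    exact hp.one_lt.ne' (Nat.dvd_one.mp h3.2)
  have hUR : U ≤ Subgroup.normalizer (O : Set G) := by
    intro u _
    rw [Subgroup.mem_normalizer_iff]
    intro g
    constructor
    · intro hg
      exact hO.conj_mem g hg u
    · intro hg
      have h3 := hO.conj_mem _ hg u⁻¹
      have e : u⁻¹ * (u * g * u⁻¹) * u⁻¹⁻¹ = g := by group
      rwa [e] at h3
  have hO' := Cfsg.Agent.Lib.Helper48.coprime_generation_le O U hcomm hexp hnc hpO hUR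
    (O ⊓ Subgroup.centralizer (H : Set G)) (by
      intro u hu hu1 y hy
      have h3 : y * u = u * y := ((Subgroup.mem_centralizer_iff.mp hy.2) u rfl).symm
      have h4 : y ∈ Subgroup.centralizer (H : Set G) := by
        rw [Subgroup.mem_centralizer_iff]
        intro h hh
        exact (hfpf.1 u (hUH hu) hu1 y hy.1 h3 h hh).symm
      exact ⟨hy.1, h4⟩)
  obtain ⟨h, hh, y, hy, hne⟩ := hfpf.2
  apply hne
  exact ((Subgroup.mem_centralizer_iff.mp (hO' hy).2) h hh).symm

end Cfsg.Agent.Lib.Helper73.TIQ
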